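import Groth.Agent.ResProp.EF.K294.Tor
import Groth.Agent.ResProp.EF.K668.CoalgAb

/-!
# The chart of the category of coalgebras over an exact comonad on `QCoh X` (BICOM, part B1)

`X : K294.Chart A C`, `G` an additive exact comonad on `C`: the category `G.Coalgebra` has the chart
`us' = G.forget ⋙ us`, `ul' = ul ⋙ G.cofree`.
-/

set_option autoImplicit false

universe w v u

open CategoryTheory CategoryTheory.Limits HomologicalComplex

namespace Groth.Agent.ResProp.EF.K742

open K294 K668

noncomputable section

variable {A : Type u} [CommRing A] {C : Type v} [Category.{w} C] [Abelian C] (X : K294.Chart A C)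
variable (G : Comonad C) [G.toFunctor.Additive] [PreservesFiniteLimits G.toFunctor]
  [PreservesFiniteColimits G.toFunctor]

/-- `G` preserves Tor-amplitude bounds (on the chart). -/
def PresTor : Prop := ∀ (a : ℤ) (K : CM A), TorGE a K →
    TorGE a (((X.ul ⋙ G.toFunctor ⋙ X.us).mapHomologicalComplex (ComplexShape.up ℤ)).obj K)

omit [G.toFunctor.Additive] [PreservesFiniteLimits G.toFunctor] [PreservesFiniteColimits G.toFunctor] in
theorem presTor_of_iso [G.toFunctor.Additive] (T : ModuleCat.{u} A ⥤ ModuleCat.{u} A) [T.Additive]
    (e : G.toFunctor ⋙ X.us ≅ X.us ⋙ T)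
    (hT : ∀ (a : ℤ) (K : CM A), TorGE a K → TorGE a ((T.mapHomologicalComplex (ComplexShape.up ℤ)).obj K)) :
    PresTor X G := fun a K hK => by
  refine TorGE.of_iso ?_ (hT a _ (X.torGE_ul a K hK))
  exact HomologicalComplex.Hom.isoOfComponents (fun n => (e.app (X.ul.obj (K.X n))).symm)
    (fun i j _ => (e.inv.naturality (X.ul.map (K.d i j))).symm)

/-- **the chart of the category of `G`-coalgebras** -/
def coalgChart (h : PresTor X G) : K294.Chart A G.Coalgebra where
  us := G.forget ⋙ X.us
  ul := X.ul ⋙ G.cofree
  adj := G.adj.comp X.adj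
  additive_us := inferInstance
  additive_ul := inferInstance
  exact_us := by
    have := X.exact_us
    infer_instance
  faithful_us := by
    have := X.faithful_us
    infer_instance
  exact_ul := by
    have := X.exact_ul
    infer_instance
  torGE_ul := fun a K hK => h a K hK

end

end Groth.Agent.ResProp.EF.K742
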