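import Groth.Agent.ResProp.EF.K742.TM
import Groth.Agent.ResProp.EF.K328.TorTens
import Mathlib.RingTheory.Flat.CategoryTheory
import Mathlib.RingTheory.Flat.Stability

/-!
# `- ⊗_k W` on `Mod R` (BICOM)

`tensR κ W : ModuleCat R ⥤ ModuleCat R`, `M ↦ TM κ M W`: preserves colimits, finite limits for `W` flat, and
`TorGE a` for `W` free.
-/

set_option autoImplicit false
set_option linter.dupNamespace false

universe u

open CategoryTheory CategoryTheory.Limits TensorProduct MonoidalCategory HomologicalComplex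

noncomputable section

namespace Groth.Agent.ResProp.EF.K742

variable {k R : Type u} [CommRing k] [CommRing R] (κ : k →+* R) (W : Type u) [AddCommGroup W] [Module k W]

/-- `- ⊗_k W` on `Mod R` -/
def tensR : ModuleCat.{u} R ⥤ ModuleCat.{u} R where
  obj M := ModuleCat.of R (TM κ M W)
  map {M N} f := ModuleCat.ofHom (TM.map κ f.hom (LinearMap.id : W →ₗ[k] W))
  map_id M := by
    apply ModuleCat.hom_ext
    refine TM.linearMap_ext κ fun m w => ?_
    exact TM.map_tm κ _ _ m w
  map_comp f g := by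
    apply ModuleCat.hom_ext
    refine TM.linearMap_ext κ fun m w => ?_
    refine (TM.map_tm κ _ _ m w).trans ?_
    exact ((congrArg (TM.map κ g.hom (LinearMap.id : W →ₗ[k] W))
      (TM.map_tm κ f.hom (LinearMap.id : W →ₗ[k] W) m w)).trans
      (TM.map_tm κ g.hom (LinearMap.id : W →ₗ[k] W) _ _)).symm

theorem tensR_obj (M : ModuleCat.{u} R) : (tensR κ W).obj M = ModuleCat.of R (TM κ M W) := rfl

theorem tensR_map {M N : ModuleCat.{u} R} (f : M ⟶ N) :
    ((tensR κ W).map f).hom = TM.map κ f.hom (LinearMap.id : W →ₗ[k] W) := rfl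

instance : (tensR κ W).Additive where
  map_add {M N f g} := by
    apply ModuleCat.hom_ext
    refine TM.linearMap_ext κ fun m w => ?_
    refine (TM.map_tm κ _ _ m w).trans ?_
    refine (TM.tm_add_left κ (f.hom m) (g.hom m) w).trans ?_
    exact congrArg₂ (· + ·) (TM.map_tm κ f.hom (LinearMap.id : W →ₗ[k] W) m w).symm
      (TM.map_tm κ g.hom (LinearMap.id : W →ₗ[k] W) m w).symm

/-- `R ⊗_k W` -/
def bcW : ModuleCat.{u} R := letI := κ.toAlgebra; ModuleCat.of R (R ⊗[k] W)

/-- `M ⊗_R (R ⊗_k W) ≃ M ⊗_k W` -/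
def bcEquiv (M : Type u) [AddCommGroup M] [Module R M] : (bcW κ W) ⊗[R] M ≃ₗ[R] TM κ M W :=
  letI := κ.toAlgebra
  letI : Module k M := Module.compHom M κ
  haveI : IsScalarTower k R M := ⟨fun a b n => mul_smul (κ a) b n⟩
  (TensorProduct.comm R (R ⊗[k] W) M).trans (AlgebraTensorModule.cancelBaseChange k R R M W)

theorem bcEquiv_tmul {M : Type u} [AddCommGroup M] [Module R M] (r : R) (w : W) (m : M) :
    letI := κ.toAlgebra
    bcEquiv κ W M ((r ⊗ₜ[k] w : R ⊗[k] W) ⊗ₜ[R] m) = TM.tm κ (r • m) w := rfl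

theorem bcEquiv_nat {M N : Type u} [AddCommGroup M] [Module R M] [AddCommGroup N] [Module R N] (f : M →ₗ[R] N) :
    (bcEquiv κ W N).toLinearMap ∘ₗ f.lTensor (bcW κ W) =
      TM.map κ f (LinearMap.id : W →ₗ[k] W) ∘ₗ (bcEquiv κ W M).toLinearMap := by
  let _ := κ.toAlgebra
  refine TensorProduct.ext' fun y m => ?_
  change bcEquiv κ W N (y ⊗ₜ[R] (f m)) = TM.map κ f (LinearMap.id : W →ₗ[k] W) (bcEquiv κ W M (y ⊗ₜ[R] m))
  refine TensorProduct.induction_on (motive := fun y : R ⊗[k] W => bcEquiv κ W N ((y : bcW κ W) ⊗ₜ[R] (f m)) =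
    TM.map κ f (LinearMap.id : W →ₗ[k] W) (bcEquiv κ W M ((y : bcW κ W) ⊗ₜ[R] m))) y ?_ ?_ ?_
  · refine (congrArg (bcEquiv κ W N) (TensorProduct.zero_tmul _ _)).trans ((map_zero _).trans ?_)
    refine Eq.symm ((congrArg (fun t => TM.map κ f (LinearMap.id : W →ₗ[k] W) (bcEquiv κ W M t))
      (TensorProduct.zero_tmul _ _)).trans ?_)
    change TM.map κ f (LinearMap.id : W →ₗ[k] W) (bcEquiv κ W M 0) = 0
    rw [map_zero, map_zero]
  · intro r w
    refine (bcEquiv_tmul κ W r w (f m)).trans ?_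
    refine Eq.symm ((congrArg _ (bcEquiv_tmul κ W r w m)).trans ?_)
    rw [TM.map_tm, map_smul]
    rfl
  · intro x y hx hy
    refine (congrArg (bcEquiv κ W N) (TensorProduct.add_tmul _ _ _)).trans ((map_add _ _ _).trans ?_)
    refine (congrArg₂ (· + ·) hx hy).trans ?_
    refine Eq.symm ((congrArg (fun t => TM.map κ f (LinearMap.id : W →ₗ[k] W) (bcEquiv κ W M t))
      (TensorProduct.add_tmul _ _ _)).trans ?_)
    change TM.map κ f (LinearMap.id : W →ₗ[k] W) (bcEquiv κ W M (_ + _)) = _
    rw [map_add, map_add]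

/-- `(R ⊗_k W) ⊗_R - ≅ - ⊗_k W` -/
def tensRIso : tensorLeft (bcW κ W) ≅ tensR κ W :=
  NatIso.ofComponents (fun M => (bcEquiv κ W M).toModuleIso) fun {M N} f => by
    apply ModuleCat.hom_ext
    exact bcEquiv_nat κ W f.hom

instance preservesColimits_tensR : PreservesColimitsOfSize.{u, u} (tensR κ W) :=
  preservesColimits_of_natIso (tensRIso κ W)

instance preservesFiniteColimits_tensR : PreservesFiniteColimits (tensR κ W) :=
  PreservesColimits.preservesFiniteColimits _

/-- `- ⊗_k W` is exact for `W` flat over `k` -/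
instance preservesFiniteLimits_tensR [Module.Flat k W] : PreservesFiniteLimits (tensR κ W) := by
  let _ := κ.toAlgebra
  have : Module.Flat R (bcW κ W) := inferInstanceAs (Module.Flat R (R ⊗[k] W))
  exact preservesFiniteLimits_of_natIso (tensRIso κ W)

/-- `- ⊗_k W` preserves `TorGE a` for `W` free over `k` -/
theorem torGE_tensR [Module.Free k W] {a : ℤ} {K : K294.CM R} (hK : K294.TorGE a K) :
    K294.TorGE a (((tensR κ W).mapHomologicalComplex (ComplexShape.up ℤ)).obj K) := by
  let _ := κ.toAlgebra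
  let b := Module.Free.chooseBasis k W
  let e : ∀ M : ModuleCat.{u} R, (tensR κ W).obj M ≅ ModuleCat.of R (Module.Free.ChooseBasisIndex k W →₀ M) :=
    fun M =>
      letI : Module k M := Module.compHom M κ
      haveI : IsScalarTower k R M := ⟨fun a b n => mul_smul (κ a) b n⟩
      (K328.tensFreeEquiv R k W b M).toModuleIso
  refine K328.torGE_finsupp (tensR κ W) e (fun {M N} f => ?_) hK
  apply ModuleCat.hom_ext
  refine LinearMap.ext fun x => ?_
  let _ : Module k M := Module.compHom M κ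
  have : IsScalarTower k R M := ⟨fun a b n => mul_smul (κ a) b n⟩
  let _ : Module k N := Module.compHom N κ
  have : IsScalarTower k R N := ⟨fun a b n => mul_smul (κ a) b n⟩
  have h := K328.tensFreeEquiv_nat R k W b f.hom x
  refine Eq.trans ?_ h
  refine congrArg (K328.tensFreeEquiv R k W b N) ?_
  change TM.map κ f.hom (LinearMap.id : W →ₗ[k] W) x = _
  clear h
  induction x using TM.induction with
  | zero => rw [map_zero]; exact (map_zero _).symm
  | tm m w => exact TM.map_tm κ f.hom _ m w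
  | add x y hx hy => rw [map_add, hx, hy]; exact (map_add _ _ _).symm

end Groth.Agent.ResProp.EF.K742
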