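import Groth.Agent.ResProp.EF.K742.GO
import Groth.Agent.ResProp.EF.K742.TensR
import Groth.Agent.ResProp.EF.K742.CoalgChart
import Groth.Agent.ResProp.EF.K741.ComodAb
import Groth.Agent.ResProp.EF.X56.ChartF
import Groth.Agent.ResProp.EF.Arch

/-!
# Exactness of `- ⊗_k W` on `Comod A`, the chart of `G^O`-coalgebras (BICOM)

For a flat groupoid ring `A`, `[Fact (GR A)]`: `tensC s W` is additive, preserves colimits, and finite limits for `W` flat
over `k`; for `W = O` free over `k`, `GO s O` preserves `TorGE` on the chart and `chartGO s O` is the chart of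
`(GO s O).Coalgebra`.  `KS.ofGRF` : the `k`-structure of `Arch.GRF k A`.
-/

set_option autoImplicit false
set_option linter.dupNamespace false

open CategoryTheory CategoryTheory.Limits Opposite TensorProduct HomologicalComplex

noncomputable section

namespace Groth.Agent.ResProp.EF.K742

open K784.BC K784.PM K741.RP EF56

universe u

variable {k : Type u} [CommRing k] {A : NFᵒᵖ ⥤ CommRingCat.{u}} (s : KS k A) (W : Type u) [AddCommGroup W] [Module k W]

/-- the `k`-structure of `Arch.GRF` -/
def KS.ofGRF (k : Type u) [CommRing k] (A : NFᵒᵖ ⥤ CommRingCat.{u}) [Arch.GRF k A] : KS k A where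
  κ X := algebraMap k (A.obj (op X.unop))
  nat {X Y} f c := Arch.GRF.map_k f.unop c

/-- `tensC` on the chart -/
def tensCvst : tensC s W ⋙ vst A ≅ vst A ⋙ tensR (s.κ (op ⟨0⟩)) W :=
  NatIso.ofComponents (fun M => Iso.refl _) fun {M N} f => by
    apply ModuleCat.hom_ext
    rfl

variable [hA : Fact (GR A)]

instance additive_tensC : (tensC s W).Additive where
  map_add {M N f g} := by
    apply ObjectProperty.hom_ext
    exact (tensP s W).map_add

/-- `- ⊗_k W` preserves colimits -/
instance preservesColimits_tensC : PreservesColimitsOfSize.{u, u} (tensC s W) where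
  preservesColimitsOfShape {J} _ := by
    have h1 : PreservesColimitsOfShape J (tensC s W ⋙ vst A) :=
      preservesColimitsOfShape_of_natIso (tensCvst s W).symm
    have h2 : ReflectsColimitsOfShape J (vst A) := reflectsColimitsOfShape_of_reflectsIsomorphisms
    exact preservesColimitsOfShape_of_reflects_of_preserves (tensC s W) (vst A)

instance preservesFiniteColimits_tensC : PreservesFiniteColimits (tensC s W) :=
  PreservesColimits.preservesFiniteColimits _

/-- `- ⊗_k W` is exact for `W` flat -/
instance preservesFiniteLimits_tensC [Module.Flat k W] : PreservesFiniteLimits (tensC s W) where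
  preservesFiniteLimits J _ _ := by
    have h1 : PreservesLimitsOfShape J (tensC s W ⋙ vst A) :=
      preservesLimitsOfShape_of_natIso (tensCvst s W).symm
    exact preservesLimitsOfShape_of_reflects_of_preserves (tensC s W) (vst A)

section comonad

variable (O : Type u) [AddCommGroup O] [Module k O] [Coalgebra k O]

instance additive_GO : (GO s O).toFunctor.Additive := inferInstanceAs (tensC s O).Additive

instance preservesColimits_GO : PreservesColimitsOfSize.{u, u} (GO s O).toFunctor :=
  inferInstanceAs (PreservesColimitsOfSize.{u, u} (tensC s O))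

instance preservesFiniteColimits_GO : PreservesFiniteColimits (GO s O).toFunctor :=
  inferInstanceAs (PreservesFiniteColimits (tensC s O))

instance preservesFiniteLimits_GO [Module.Flat k O] : PreservesFiniteLimits (GO s O).toFunctor :=
  inferInstanceAs (PreservesFiniteLimits (tensC s O))

/-- `- ⊗_k O` on the chart -/
def GOus : (GO s O).toFunctor ⋙ (chartF A).us ≅ (chartF A).us ⋙ tensR (s.κ (op ⟨0⟩)) O := tensCvst s O

/-- `- ⊗_k O` preserves `TorGE` on the chart -/
theorem presTor [Module.Free k O] : PresTor (chartF A) (GO s O) :=
  presTor_of_iso (chartF A) (GO s O) (tensR (s.κ (op ⟨0⟩)) O) (GOus s O) fun _ _ hK =>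
    torGE_tensR (s.κ (op ⟨0⟩)) O hK

/-- **the chart of the category of `G^O`-coalgebras in `Comod A`** (`(Γ, E)`-bicomodules) -/
def chartGO [Module.Free k O] : K294.Chart (A.obj (op ⟨0⟩)) (GO s O).Coalgebra :=
  coalgChart (chartF A) (GO s O) (presTor s O)

theorem chartGO_us [Module.Free k O] : (chartGO s O).us = (GO s O).forget ⋙ vst A := rfl

end comonad

end Groth.Agent.ResProp.EF.K742
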