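import Groth.Agent.ResProp.EF.K742.Bicom
import Groth.Agent.ResProp.EF.K496.CobAbs

/-!
# The comonad `- ⊗_k O` on `Comod A` (BICOM, part B2)

`GO s O : Comonad (Comod A)` for a `k`-coalgebra `O`, `unitGO s O : K496.CUnit (GO s O)`, `m ↦ m ⊗ 1`, for a bialgebra.
-/

set_option autoImplicit false
set_option linter.dupNamespace false
set_option linter.unusedSectionVars false

open CategoryTheory CategoryTheory.Limits Opposite TensorProduct

noncomputable section

namespace Groth.Agent.ResProp.EF.K742

open K784.BC K784.PM K741.RP EF56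

universe u

variable {k : Type u} [CommRing k]

section level

variable (O : Type u) [AddCommGroup O] [Module k O] [Coalgebra k O]
variable {R : Type u} [CommRing R] (κ : k →+* R) {M : Type u} [AddCommGroup M] [Module R M]

theorem epsL_ins (m : M) (z : O ⊗[k] O) :
    epsL O κ (TM κ M O) (ins O κ m z) =
      TM.tm κ m (TensorProduct.rid k O ((Coalgebra.counit (R := k) (A := O)).lTensor O z)) := by
  induction z using TensorProduct.induction_on with
  | zero => rw [map_zero, map_zero, map_zero, map_zero, TM.tm_zero_right]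
  | tmul a b =>
    rw [ins_tmul, epsL_tm, TM.k_smul_tm, LinearMap.lTensor_tmul, TensorProduct.rid_tmul]
  | add x y hx hy => rw [map_add, map_add, map_add, map_add, TM.tm_add_right, hx, hy]

theorem map_epsL_ins (m : M) (z : O ⊗[k] O) :
    TM.map κ (epsL O κ M) (LinearMap.id : O →ₗ[k] O) (ins O κ m z) =
      TM.tm κ m (TensorProduct.lid k O ((Coalgebra.counit (R := k) (A := O)).rTensor O z)) := by
  induction z using TensorProduct.induction_on with
  | zero => rw [map_zero, map_zero, map_zero, map_zero, TM.tm_zero_right]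
  | tmul a b =>
    rw [ins_tmul, TM.map_tm, epsL_tm, TM.tm_k, LinearMap.rTensor_tmul, TensorProduct.lid_tmul]
    rfl
  | add x y hx hy => rw [map_add, map_add, map_add, map_add, TM.tm_add_right, hx, hy]

/-- `z ⊗ c ↦ (m ⊗ z) ⊗ c` -/
def ins3 (m : M) : (O ⊗[k] O) ⊗[k] O →+ TM κ (TM κ (TM κ M O) O) O :=
  TensorProduct.liftAddHom
    (AddMonoidHom.mk' (fun z => AddMonoidHom.mk' (fun b => TM.tm κ (ins O κ m z) b) (TM.tm_add_right κ _)) fun z z' => by
      ext b
      change TM.tm κ (ins O κ m (z + z')) b = TM.tm κ (ins O κ m z) b + TM.tm κ (ins O κ m z') b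
      rw [map_add, TM.tm_add_left])
    (fun c z b => by
      change TM.tm κ (ins O κ m (c • z)) b = TM.tm κ (ins O κ m z) (c • b)
      rw [ins_k, ins_smul, TM.tm_k])

@[simp] theorem ins3_tmul (m : M) (z : O ⊗[k] O) (b : O) :
    ins3 O κ m (z ⊗ₜ[k] b) = TM.tm κ (ins O κ m z) b := rfl

theorem ins_tm (m : M) (a : O) (w : O ⊗[k] O) :
    ins O κ (TM.tm κ m a) w = ins3 O κ m ((TensorProduct.assoc k O O O).symm (a ⊗ₜ[k] w)) := by
  induction w using TensorProduct.induction_on with
  | zero => rw [TensorProduct.tmul_zero, map_zero, map_zero, map_zero]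
  | tmul b c => rw [TensorProduct.assoc_symm_tmul, ins3_tmul, ins_tmul, ins_tmul]
  | add x y hx hy => rw [TensorProduct.tmul_add, map_add, map_add, map_add, hx, hy]

theorem delL_ins (m : M) (z : O ⊗[k] O) :
    delL O κ (TM κ M O) (ins O κ m z) =
      ins3 O κ m ((TensorProduct.assoc k O O O).symm ((Coalgebra.comul (R := k) (A := O)).lTensor O z)) := by
  induction z using TensorProduct.induction_on with
  | zero => rw [map_zero, map_zero, map_zero, map_zero, map_zero]
  | tmul a b => rw [ins_tmul, delL_tm, ins_tm, LinearMap.lTensor_tmul]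
  | add x y hx hy => rw [map_add, map_add, map_add, map_add, map_add, hx, hy]

theorem map_delL_ins (m : M) (z : O ⊗[k] O) :
    TM.map κ (delL O κ M) (LinearMap.id : O →ₗ[k] O) (ins O κ m z) =
      ins3 O κ m ((Coalgebra.comul (R := k) (A := O)).rTensor O z) := by
  induction z using TensorProduct.induction_on with
  | zero => rw [map_zero, map_zero, map_zero, map_zero]
  | tmul a b => rw [ins_tmul, TM.map_tm, delL_tm, LinearMap.rTensor_tmul, ins3_tmul]; rfl
  | add x y hx hy => rw [map_add, map_add, map_add, map_add, hx, hy]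

theorem map_map_ins {N : Type u} [AddCommGroup N] [Module R N] (f : M →ₗ[R] N) (m : M) (z : O ⊗[k] O) :
    TM.map κ (TM.map κ f (LinearMap.id : O →ₗ[k] O)) (LinearMap.id : O →ₗ[k] O) (ins O κ m z) =
      ins O κ (f m) z := by
  induction z using TensorProduct.induction_on with
  | zero => rw [map_zero, map_zero, map_zero]
  | tmul a b => rw [ins_tmul, ins_tmul, TM.map_tm, TM.map_tm]; rfl
  | add x y hx hy => rw [map_add, map_add, map_add, hx, hy]

end level

variable {A : NFᵒᵖ ⥤ CommRingCat.{u}} (s : KS k A)
variable (O : Type u) [AddCommGroup O] [Module k O] [Coalgebra k O]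

/-- the comonad `- ⊗_k O` on `Comod A` -/
def GO : Comonad (Comod A) where
  toFunctor := tensC s O
  ε :=
    { app := fun M => ObjectProperty.homMk (epsP s O M.obj)
      naturality := fun M N f => by
        apply ObjectProperty.hom_ext
        refine tens_ext s fun X m w => ?_
        refine (congrArg (lv (epsP s O N.obj) X) (tensPmap_tm s f.hom (LinearMap.id : O →ₗ[k] O) X m w)).trans ?_
        refine (epsP_tm s O N.obj X _ _).trans ?_
        refine Eq.symm ((congrArg (lv f.hom X) (epsP_tm s O M.obj X m w)).trans ?_)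
        exact (lv f.hom X).map_smul _ _ }
  δ :=
    { app := fun M => ObjectProperty.homMk (delP s O M.obj)
      naturality := fun M N f => by
        apply ObjectProperty.hom_ext
        refine tens_ext s fun X m w => ?_
        refine (congrArg (lv (delP s O N.obj) X) (tensPmap_tm s f.hom (LinearMap.id : O →ₗ[k] O) X m w)).trans ?_
        refine (delP_tm s O N.obj X _ _).trans ?_
        refine Eq.symm ((congrArg (lv (tensPmap s (tensPmap s f.hom (LinearMap.id : O →ₗ[k] O))
          (LinearMap.id : O →ₗ[k] O)) X) (delP_tm s O M.obj X m w)).trans ?_)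
        exact map_map_ins O (s.κ X) (lv f.hom X) m _ }
  coassoc M := by
    apply ObjectProperty.hom_ext
    refine tens_ext s fun X m w => ?_
    refine (congrArg (TM.map (s.κ X) (delL O (s.κ X) (M.obj.obj X)) (LinearMap.id : O →ₗ[k] O))
      (delL_tm O (s.κ X) m w)).trans ?_
    refine (map_delL_ins O (s.κ X) m _).trans ?_
    refine Eq.symm ((congrArg (delL O (s.κ X) (TM (s.κ X) (M.obj.obj X) O)) (delL_tm O (s.κ X) m w)).trans ?_)
    refine (delL_ins O (s.κ X) m _).trans ?_
    rw [← Coalgebra.coassoc_apply, LinearEquiv.symm_apply_apply]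
  left_counit M := by
    apply ObjectProperty.hom_ext
    refine tens_ext s fun X m w => ?_
    refine (congrArg (epsL O (s.κ X) (TM (s.κ X) (M.obj.obj X) O)) (delL_tm O (s.κ X) m w)).trans ?_
    refine (epsL_ins O (s.κ X) m _).trans ?_
    rw [Coalgebra.lTensor_counit_comul, TensorProduct.rid_tmul, one_smul]
    rfl
  right_counit M := by
    apply ObjectProperty.hom_ext
    refine tens_ext s fun X m w => ?_
    refine (congrArg (TM.map (s.κ X) (epsL O (s.κ X) (M.obj.obj X)) (LinearMap.id : O →ₗ[k] O))
      (delL_tm O (s.κ X) m w)).trans ?_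
    refine (map_epsL_ins O (s.κ X) m _).trans ?_
    rw [Coalgebra.rTensor_counit_comul, TensorProduct.lid_tmul, one_smul]
    rfl

theorem GO_toFunctor : (GO s O).toFunctor = tensC s O := rfl

theorem GO_ε_app (M : Comod A) : ((GO s O).ε.app M).hom = epsP s O M.obj := rfl

theorem GO_δ_app (M : Comod A) : ((GO s O).δ.app M).hom = delP s O M.obj := rfl

section bialgebra

variable (B : Type u) [CommRing B] [Bialgebra k B]

/-- `m ↦ m ⊗ 1` -/
def unitP (M : PresheafOfModules.{u} (rf A)) : M ⟶ tensPobj s M B :=
  mkHom (M := M) (N := tensPobj s M B) (fun X =>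
    { toFun := fun m => TM.tm (s.κ X) m (1 : B)
      map_add' := fun m m' => TM.tm_add_left _ m m' _
      map_smul' := fun r m => (TM.smul_tm (s.κ X) r m (1 : B)).symm })
    fun {X Y} φ m => (tmap_tm s M B φ m 1).symm

theorem unitP_apply (M : PresheafOfModules.{u} (rf A)) (X : NFᵒᵖ) (m : M.obj X) :
    lv (unitP s B M) X m = TM.tm (s.κ X) m (1 : B) := rfl

/-- **the unit `m ↦ m ⊗ 1`** of the comonad `- ⊗_k B` -/
def unitGO : K496.CUnit (GO s B) where
  e N := ObjectProperty.homMk (unitP s B N.obj)
  nat {M N} f := by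
    apply ObjectProperty.hom_ext
    refine phom_ext fun X m => ?_
    exact (tensPmap_tm s f.hom (LinearMap.id : B →ₗ[k] B) X m 1).symm
  counit N := by
    apply ObjectProperty.hom_ext
    refine phom_ext fun X m => ?_
    refine (epsP_tm s B N.obj X m 1).trans ?_
    rw [Bialgebra.counit_one, map_one, one_smul]
    rfl
  comul N := by
    apply ObjectProperty.hom_ext
    refine phom_ext fun X m => ?_
    refine (delP_tm s B N.obj X m 1).trans ?_
    rw [Bialgebra.comul_one]
    refine Eq.symm ((tensPmap_tm s (unitP s B N.obj) (LinearMap.id : B →ₗ[k] B) X m 1).trans ?_)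
    rfl

end bialgebra

end Groth.Agent.ResProp.EF.K742
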