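import Mathlib.LinearAlgebra.TensorProduct.Basic
import Mathlib.LinearAlgebra.TensorProduct.Tower
import Mathlib.Algebra.Module.LinearMap.End

/-!
# `M ⊗_k W` for an `R`-module `M`, `k` acting through `κ : k → R` (BICOM, part B2)

`TM κ M W` is `M ⊗[k] W`, with the `k`-module structure of `M` given by `κ`, as an `R`-module.
-/

set_option autoImplicit false

universe u

open TensorProduct

namespace Groth.Agent.ResProp.EF.K742

noncomputable section

variable {k R : Type u} [CommRing k] [CommRing R] (κ : k →+* R)
variable (M : Type u) [AddCommGroup M] [Module R M] (W : Type u) [AddCommGroup W] [Module k W]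

/-- `M ⊗_k W` -/
def TM : Type u := @TensorProduct k _ M W _ _ (Module.compHom M κ) _

/-- the `R`-module structure on `M ⊗[k] W` -/
@[reducible]
def modAux (k R M W : Type u) [CommRing k] [CommRing R] [Algebra k R] [AddCommGroup M] [Module k M] [Module R M]
    [IsScalarTower k R M] [AddCommGroup W] [Module k W] : Module R (M ⊗[k] W) := inferInstance

theorem towerAux : letI := κ.toAlgebra; letI : Module k M := Module.compHom M κ; IsScalarTower k R M :=
  letI := κ.toAlgebra; letI : Module k M := Module.compHom M κ; ⟨fun a b n => mul_smul (κ a) b n⟩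

instance instG : AddCommGroup (TM κ M W) := @TensorProduct.addCommGroup k _ M W _ _ (Module.compHom M κ) _

instance instM : Module R (TM κ M W) :=
  @modAux k R M W _ _ κ.toAlgebra _ (Module.compHom M κ) _ (towerAux κ M) _ _

namespace TM

variable {M W}

/-- pure tensors -/
def tm (m : M) (w : W) : TM κ M W :=
  letI : Module k M := Module.compHom M κ
  m ⊗ₜ[k] w

theorem tm_add_left (m m' : M) (w : W) : tm κ (m + m') w = tm κ m w + tm κ m' w :=
  letI : Module k M := Module.compHom M κ
  TensorProduct.add_tmul m m' w

theorem tm_add_right (m : M) (w w' : W) : tm κ m (w + w') = tm κ m w + tm κ m w' :=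
  letI : Module k M := Module.compHom M κ
  TensorProduct.tmul_add m w w'

theorem tm_zero_left (w : W) : tm κ (0 : M) w = 0 :=
  letI : Module k M := Module.compHom M κ
  TensorProduct.zero_tmul M w

theorem tm_zero_right (m : M) : tm κ m (0 : W) = 0 :=
  letI : Module k M := Module.compHom M κ
  TensorProduct.tmul_zero W m

theorem smul_tm (r : R) (m : M) (w : W) : r • tm κ m w = tm κ (r • m) w :=
  letI := κ.toAlgebra
  letI : Module k M := Module.compHom M κ
  haveI : IsScalarTower k R M := ⟨fun a b n => mul_smul (κ a) b n⟩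
  TensorProduct.smul_tmul' r m w

theorem tm_k (c : k) (m : M) (w : W) : tm κ (κ c • m) w = tm κ m (c • w) :=
  letI : Module k M := Module.compHom M κ
  TensorProduct.smul_tmul c m w

theorem k_smul_tm (c : k) (m : M) (w : W) : κ c • tm κ m w = tm κ m (c • w) := by
  rw [smul_tm, tm_k]

@[elab_as_elim]
theorem induction {p : TM κ M W → Prop} (x : TM κ M W) (zero : p 0) (tm : ∀ m w, p (tm κ m w))
    (add : ∀ x y, p x → p y → p (x + y)) : p x :=
  letI : Module k M := Module.compHom M κ
  TensorProduct.induction_on (motive := p) x zero tm add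

section lift

variable {P : Type*} [AddCommGroup P]

/-- additive maps out of `TM κ M W` -/
def lift (f : M →+ W →+ P) (hf : ∀ (c : k) (m : M) (w : W), f (κ c • m) w = f m (c • w)) : TM κ M W →+ P :=
  letI : Module k M := Module.compHom M κ
  TensorProduct.liftAddHom f hf

theorem lift_tm (f : M →+ W →+ P) (hf : ∀ (c : k) (m : M) (w : W), f (κ c • m) w = f m (c • w)) (m : M) (w : W) :
    lift κ f hf (tm κ m w) = f m w :=
  letI : Module k M := Module.compHom M κ
  TensorProduct.liftAddHom_tmul f hf m w

theorem addHom_ext {f g : TM κ M W →+ P} (h : ∀ m w, f (tm κ m w) = g (tm κ m w)) : f = g := by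
  ext x
  induction x using TM.induction with
  | zero => rw [map_zero, map_zero]
  | tm m w => exact h m w
  | add x y hx hy => rw [map_add, map_add, hx, hy]

/-- `tm` as a biadditive map -/
def tmHom : M →+ W →+ TM κ M W :=
  AddMonoidHom.mk' (fun m => AddMonoidHom.mk' (fun w => tm κ m w) (tm_add_right κ m)) fun m m' => by
    ext w
    exact tm_add_left κ m m' w

@[simp] theorem tmHom_apply (m : M) (w : W) : tmHom κ m w = tm κ m w := rfl

end lift

theorem linearMap_ext {P : Type*} [AddCommGroup P] [Module R P] {f g : TM κ M W →ₗ[R] P}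
    (h : ∀ m w, f (tm κ m w) = g (tm κ m w)) : f = g := by
  ext x
  induction x using TM.induction with
  | zero => rw [map_zero, map_zero]
  | tm m w => exact h m w
  | add x y hx hy => rw [map_add, map_add, hx, hy]

/-- linear maps out of `TM κ M W` -/
def liftL {P : Type*} [AddCommGroup P] [Module R P] (f : M →+ W →+ P)
    (hf : ∀ (c : k) (m : M) (w : W), f (κ c • m) w = f m (c • w))
    (hR : ∀ (r : R) (m : M) (w : W), f (r • m) w = r • f m w) : TM κ M W →ₗ[R] P where
  toFun := lift κ f hf
  map_add' := map_add _
  map_smul' r x := by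
    induction x using TM.induction with
    | zero => simp
    | tm m w => rw [smul_tm, lift_tm, lift_tm, hR]; rfl
    | add x y hx hy => rw [smul_add, map_add, map_add, hx, hy, smul_add]

@[simp] theorem liftL_tm {P : Type*} [AddCommGroup P] [Module R P] (f : M →+ W →+ P)
    (hf : ∀ (c : k) (m : M) (w : W), f (κ c • m) w = f m (c • w))
    (hR : ∀ (r : R) (m : M) (w : W), f (r • m) w = r • f m w) (m : M) (w : W) :
    liftL κ f hf hR (tm κ m w) = f m w := lift_tm κ f hf m w

section map

variable {M' : Type u} [AddCommGroup M'] [Module R M'] {W' : Type u} [AddCommGroup W'] [Module k W']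

/-- functoriality -/
def map (f : M →ₗ[R] M') (g : W →ₗ[k] W') : TM κ M W →ₗ[R] TM κ M' W' :=
  liftL κ (AddMonoidHom.mk' (fun m => ((tmHom κ (f m)).comp g.toAddMonoidHom)) fun m m' => by
      ext w
      simp [tm_add_left])
    (fun c m w => by
      simp only [AddMonoidHom.mk'_apply, AddMonoidHom.comp_apply, LinearMap.toAddMonoidHom_coe, tmHom_apply,
        map_smul, tm_k])
    (fun r m w => by
      simp only [AddMonoidHom.mk'_apply, AddMonoidHom.comp_apply, LinearMap.toAddMonoidHom_coe, tmHom_apply,
        map_smul, smul_tm])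

@[simp] theorem map_tm (f : M →ₗ[R] M') (g : W →ₗ[k] W') (m : M) (w : W) :
    map κ f g (tm κ m w) = tm κ (f m) (g w) := liftL_tm κ _ _ _ m w

end map

section semi

variable {S : Type u} [CommRing S] {κ} (κ' : k →+* S) (φ : R →+* S) (hφ : ∀ c, φ (κ c) = κ' c)
variable {N : Type u} [AddCommGroup N] [Module S N]

/-- functoriality along a change of rings -/
def smap (f : M →+ N) (hf : ∀ (r : R) (m : M), f (r • m) = φ r • f m) : TM κ M W →+ TM κ' N W :=
  lift κ (AddMonoidHom.mk' (fun m => tmHom κ' (f m)) fun m m' => by
      ext w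
      simp [tm_add_left])
    (fun c m w => by
      simp only [AddMonoidHom.mk'_apply, tmHom_apply]
      rw [hf, hφ, tm_k])

@[simp] theorem smap_tm (f : M →+ N) (hf : ∀ (r : R) (m : M), f (r • m) = φ r • f m) (m : M) (w : W) :
    smap κ' φ hφ f hf (tm κ m w) = tm κ' (f m) w := lift_tm κ _ _ m w

theorem smap_smul (f : M →+ N) (hf : ∀ (r : R) (m : M), f (r • m) = φ r • f m) (r : R) (x : TM κ M W) :
    smap κ' φ hφ f hf (r • x) = φ r • smap κ' φ hφ f hf x := by
  induction x using TM.induction with
  | zero => simp
  | tm m w => rw [smul_tm, smap_tm, smap_tm, smul_tm, hf]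
  | add x y hx hy => rw [smul_add, map_add, map_add, hx, hy, smul_add]

end semi

end TM

end

end Groth.Agent.ResProp.EF.K742
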