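import Groth.Agent.ResProp.EF.Base
import Groth.Agent.ResProp.EF.K742.TM
import Groth.Agent.ResProp.EF.K328.BCTens
import Mathlib.RingTheory.Coalgebra.Basic
import Mathlib.RingTheory.Bialgebra.Basic

/-!
# `- ⊗_k W` on `Comod A` and the comonad `- ⊗_k O` (BICOM, part B2)

`KS k A` : compatible ring maps `k → A⟨n⟩`.  `tensP s W`, `tensC s W` : `M ↦ (M⟨n⟩ ⊗_k W)_n` on presheaves of modules and on
`Comod A`.  `GO s O` : the comonad `- ⊗_k O` of a `k`-coalgebra `O`.
-/

set_option autoImplicit false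
set_option linter.dupNamespace false

open CategoryTheory CategoryTheory.Limits Opposite TensorProduct

noncomputable section

namespace Groth.Agent.ResProp.EF.K742

open K784.BC K784.PM K741.RP EF56

universe u

/-- compatible ring maps `k → A⟨n⟩` -/
structure KS (k : Type u) [CommRing k] (A : NFᵒᵖ ⥤ CommRingCat.{u}) where
  κ : ∀ X : NFᵒᵖ, k →+* A.obj X
  nat : ∀ {X Y : NFᵒᵖ} (f : X ⟶ Y) (c : k), (A.map f).hom (κ X c) = κ Y c

variable {k : Type u} [CommRing k] {A : NFᵒᵖ ⥤ CommRingCat.{u}} (s : KS k A)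

section presheaf

/-- the transition map of a presheaf of modules as an additive map -/
def pmap (M : PresheafOfModules.{u} (rf A)) {X Y : NFᵒᵖ} (f : X ⟶ Y) : M.obj X →+ M.obj Y :=
  (M.map f).hom.toAddMonoidHom

theorem pmap_smul (M : PresheafOfModules.{u} (rf A)) {X Y : NFᵒᵖ} (f : X ⟶ Y) (r : A.obj X) (m : M.obj X) :
    pmap M f (r • m) = (A.map f).hom r • pmap M f m := M.map_smul f r m

/-- the transition map of `M ⊗_k W` -/
def tmap (M : PresheafOfModules.{u} (rf A)) (W : Type u) [AddCommGroup W] [Module k W] {X Y : NFᵒᵖ} (f : X ⟶ Y) :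
    TM (s.κ X) (M.obj X) W →+ TM (s.κ Y) (M.obj Y) W :=
  TM.smap (s.κ Y) (A.map f).hom (s.nat f) (pmap M f) (pmap_smul M f)

@[simp] theorem tmap_tm (M : PresheafOfModules.{u} (rf A)) (W : Type u) [AddCommGroup W] [Module k W] {X Y : NFᵒᵖ}
    (f : X ⟶ Y) (m : M.obj X) (w : W) :
    tmap s M W f (TM.tm (s.κ X) m w) = TM.tm (s.κ Y) (pmap M f m) w := TM.smap_tm _ _ _ _ _ _ _

theorem tmap_smul (M : PresheafOfModules.{u} (rf A)) (W : Type u) [AddCommGroup W] [Module k W] {X Y : NFᵒᵖ}
    (f : X ⟶ Y) (r : A.obj X) (x : TM (s.κ X) (M.obj X) W) :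
    tmap s M W f (r • x) = (A.map f).hom r • tmap s M W f x := TM.smap_smul _ _ _ _ _ _ _

/-- `M ⊗_k W` -/
def tensPobj (M : PresheafOfModules.{u} (rf A)) (W : Type u) [AddCommGroup W] [Module k W] :
    PresheafOfModules.{u} (rf A) where
  obj X := ModuleCat.of (A.obj X) (TM (s.κ X) (M.obj X) W)
  map {X Y} f := ModuleCat.ofHom
    (Y := (ModuleCat.restrictScalars ((rf A).map f).hom).obj (ModuleCat.of (A.obj Y) (TM (s.κ Y) (M.obj Y) W)))
    { toFun := fun x => tmap s M W f x
      map_add' := map_add _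
      map_smul' := fun r x => tmap_smul s M W f r x }
  map_id X := by
    ext x
    change tmap s M W (𝟙 X) x = x
    induction x using TM.induction with
    | zero => rw [map_zero]
    | tm m w =>
      rw [tmap_tm]
      congr 1
      change M.map (𝟙 X) m = m
      rw [M.map_id]
      rfl
    | add x y hx hy => rw [map_add, hx, hy]
  map_comp {X Y Z} f g := by
    ext x
    change tmap s M W (f ≫ g) x = tmap s M W g (tmap s M W f x)
    induction x using TM.induction with
    | zero => rw [map_zero, map_zero, map_zero]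
    | tm m w =>
      rw [tmap_tm, tmap_tm, tmap_tm]
      congr 1
      exact M.map_comp_apply f g m
    | add x y hx hy => rw [map_add, map_add, map_add, hx, hy]

/-- a morphism of presheaves of modules from levelwise linear maps commuting with the transition maps -/
def mkHom {M N : PresheafOfModules.{u} (rf A)} (f : ∀ X : NFᵒᵖ, M.obj X →ₗ[A.obj X] N.obj X)
    (h : ∀ {X Y : NFᵒᵖ} (g : X ⟶ Y) (m : M.obj X), f Y (M.map g m) = N.map g (f X m)) : M ⟶ N where
  app X := ModuleCat.ofHom (f X)
  naturality {X Y} g := by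
    ext m
    exact h g m

@[simp] theorem mkHom_app {M N : PresheafOfModules.{u} (rf A)} (f : ∀ X : NFᵒᵖ, M.obj X →ₗ[A.obj X] N.obj X)
    (h : ∀ {X Y : NFᵒᵖ} (g : X ⟶ Y) (m : M.obj X), f Y (M.map g m) = N.map g (f X m)) (X : NFᵒᵖ) (m : M.obj X) :
    ((mkHom f h).app X).hom m = f X m := rfl

/-- the linear map of a morphism at a level -/
def lv {M N : PresheafOfModules.{u} (rf A)} (f : M ⟶ N) (X : NFᵒᵖ) : M.obj X →ₗ[A.obj X] N.obj X := (f.app X).hom

theorem lv_comp {M N P : PresheafOfModules.{u} (rf A)} (f : M ⟶ N) (g : N ⟶ P) (X : NFᵒᵖ) (m : M.obj X) :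
    lv (f ≫ g) X m = lv g X (lv f X m) := rfl

theorem lv_nat {M N : PresheafOfModules.{u} (rf A)} (f : M ⟶ N) {X Y : NFᵒᵖ} (g : X ⟶ Y) (m : M.obj X) :
    lv f Y (M.map g m) = N.map g (lv f X m) := PresheafOfModules.naturality_apply f g m

theorem phom_ext {M N : PresheafOfModules.{u} (rf A)} {f g : M ⟶ N} (h : ∀ X m, lv f X m = lv g X m) : f = g := by
  apply PresheafOfModules.hom_ext
  intro X
  ext m
  exact h X m

theorem tens_map_apply (M : PresheafOfModules.{u} (rf A)) (W : Type u) [AddCommGroup W] [Module k W] {X Y : NFᵒᵖ}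
    (g : X ⟶ Y) (x : TM (s.κ X) (M.obj X) W) :
    (tensPobj s M W).map g x = tmap s M W g x := rfl

/-- functoriality of `M ⊗_k W` in both variables -/
def tensPmap {M N : PresheafOfModules.{u} (rf A)} (f : M ⟶ N) {W W' : Type u} [AddCommGroup W] [Module k W]
    [AddCommGroup W'] [Module k W'] (g : W →ₗ[k] W') : tensPobj s M W ⟶ tensPobj s N W' :=
  mkHom (M := tensPobj s M W) (N := tensPobj s N W') (fun X => TM.map (s.κ X) (lv f X) g) fun {X Y} φ x => by
    change TM.map (s.κ Y) (lv f Y) g (tmap s M W φ x) = tmap s N W' φ (TM.map (s.κ X) (lv f X) g x)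
    induction x using TM.induction with
    | zero => rw [map_zero, map_zero, map_zero, map_zero]
    | tm m w =>
      rw [tmap_tm, TM.map_tm, TM.map_tm, tmap_tm]
      congr 1
      exact lv_nat f φ m
    | add x y hx hy => rw [map_add, map_add, map_add, map_add, hx, hy]

theorem tensPmap_tm {M N : PresheafOfModules.{u} (rf A)} (f : M ⟶ N) {W W' : Type u} [AddCommGroup W] [Module k W]
    [AddCommGroup W'] [Module k W'] (g : W →ₗ[k] W') (X : NFᵒᵖ) (m : M.obj X) (w : W) :
    lv (tensPmap s f g) X (TM.tm (s.κ X) m w) = TM.tm (s.κ X) (lv f X m) (g w) := TM.map_tm _ _ _ _ _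

/-- levelwise extensionality for maps out of `M ⊗_k W` -/
theorem tens_ext {M N : PresheafOfModules.{u} (rf A)} {W : Type u} [AddCommGroup W] [Module k W]
    {f g : tensPobj s M W ⟶ N} (h : ∀ X (m : M.obj X) (w : W), lv f X (TM.tm (s.κ X) m w) = lv g X (TM.tm (s.κ X) m w)) :
    f = g := by
  apply phom_ext
  intro X x
  have : (lv f X : TM (s.κ X) (M.obj X) W →ₗ[A.obj X] N.obj X) = lv g X := TM.linearMap_ext _ (h X)
  exact LinearMap.congr_fun this x

variable (W : Type u) [AddCommGroup W] [Module k W]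

/-- `- ⊗_k W` on presheaves of modules -/
def tensP : PresheafOfModules.{u} (rf A) ⥤ PresheafOfModules.{u} (rf A) where
  obj M := tensPobj s M W
  map f := tensPmap s f (LinearMap.id : W →ₗ[k] W)
  map_id M := tens_ext s fun X m w => by rw [tensPmap_tm]; rfl
  map_comp f g := tens_ext s fun X m w => by
    rw [lv_comp, tensPmap_tm, tensPmap_tm]
    exact (tensPmap_tm s g (LinearMap.id : W →ₗ[k] W) X (lv f X m) w).symm

instance : (tensP s W).Additive where
  map_add {M N f g} := tens_ext s fun X m w => by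
    change lv (tensPmap s (f + g) (LinearMap.id : W →ₗ[k] W)) X _ =
      lv (tensPmap s f (LinearMap.id : W →ₗ[k] W)) X _ + lv (tensPmap s g (LinearMap.id : W →ₗ[k] W)) X _
    rw [tensPmap_tm, tensPmap_tm, tensPmap_tm]
    exact TM.tm_add_left (s.κ X) (lv f X m) (lv g X m) w

end presheaf

section cart

theorem isBC_pm (P : PM.{u} A) {x z : NF} (φ : x ⟶ z) (h0 : IsBC (rg A φ) (P.map φ)) (W : Type u) [AddCommGroup W]
    [Module k W] : IsBC (rg A φ) (TM.smap (W := W) (κ := s.κ (op z)) (s.κ (op x)) (rg A φ) (s.nat φ.op) (P.map φ)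
      (P.map_smul φ)) := by
  let _ := (s.κ (op z)).toAlgebra
  let _ := (s.κ (op x)).toAlgebra
  let _ : Module k (P.obj z) := Module.compHom _ (s.κ (op z))
  let _ : Module k (P.obj x) := Module.compHom _ (s.κ (op x))
  have : IsScalarTower k (A.obj (op z)) (P.obj z) := ⟨fun a b n => mul_smul (s.κ (op z) a) b n⟩
  have : IsScalarTower k (A.obj (op x)) (P.obj x) := ⟨fun a b n => mul_smul (s.κ (op x) a) b n⟩
  let f : P.obj z →ₗ[k] P.obj x :=
    { toFun := fun m => P.map φ m
      map_add' := map_add _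
      map_smul' := fun c m => (h0.map_smul (s.κ (op z) c) m).trans
        (congrArg (fun t : A.obj (op x) => t • P.map φ m) (s.nat φ.op c)) }
  have h1 := K328.isBC_rTensor (rg A φ) (fun c => s.nat φ.op c) f h0 W
  have e : (TM.smap (W := W) (κ := s.κ (op z)) (s.κ (op x)) (rg A φ) (s.nat φ.op) (P.map φ)
      (P.map_smul φ)) = (f.rTensor W).toAddMonoidHom := by
    refine TM.addHom_ext (s.κ (op z)) fun m w => ?_
    rw [TM.smap_tm]
    rfl
  rw [e]
  exact h1

theorem isBC_tmap {M : PresheafOfModules.{u} (rf A)} (hM : (toPM M).Cart) (W : Type u) [AddCommGroup W] [Module k W] :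
    (toPM (tensPobj s M W)).Cart := fun _ _ φ => isBC_pm s (toPM M) φ (hM φ) W

end cart

section comod

variable (W : Type u) [AddCommGroup W] [Module k W]

/-- `M ⊗_k W` in `Comod A` -/
def tensCobj (M : Comod A) : Comod A := ⟨tensPobj s M.obj W, isBC_tmap s M.property W⟩

/-- `- ⊗_k W` on `Comod A` -/
def tensC : Comod A ⥤ Comod A where
  obj M := tensCobj s W M
  map f := ObjectProperty.homMk ((tensP s W).map f.hom)
  map_id M := by
    apply ObjectProperty.hom_ext
    exact (tensP s W).map_id M.obj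
  map_comp f g := by
    apply ObjectProperty.hom_ext
    exact (tensP s W).map_comp f.hom g.hom

@[simp] theorem tensC_map_hom {M N : Comod A} (f : M ⟶ N) : ((tensC s W).map f).hom = (tensP s W).map f.hom := rfl

variable {W} in
/-- functoriality in `W` -/
def tensMap {W' : Type u} [AddCommGroup W'] [Module k W'] (g : W →ₗ[k] W') : tensC s W ⟶ tensC s W' where
  app M := ObjectProperty.homMk (tensPmap s (𝟙 M.obj) g)
  naturality M N f := by
    apply ObjectProperty.hom_ext
    refine tens_ext s fun X m w => ?_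
    refine (congrArg (lv (tensPmap s (𝟙 N.obj) g) X)
      (tensPmap_tm s f.hom (LinearMap.id : W →ₗ[k] W) X m w)).trans ?_
    refine (tensPmap_tm s (𝟙 N.obj) g X _ _).trans ?_
    refine Eq.symm ((congrArg (lv (tensPmap s f.hom (LinearMap.id : W' →ₗ[k] W')) X)
      (tensPmap_tm s (𝟙 M.obj) g X m w)).trans ?_)
    exact tensPmap_tm s f.hom (LinearMap.id : W' →ₗ[k] W') X _ _

end comod

section comonad

variable (O : Type u) [AddCommGroup O] [Module k O] [Coalgebra k O]

/-- `M ⊗ O → M` at a level -/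
def epsL {R : Type u} [CommRing R] (κ : k →+* R) (M : Type u) [AddCommGroup M] [Module R M] :
    TM κ M O →ₗ[R] M :=
  TM.liftL κ
    (AddMonoidHom.mk' (fun m => AddMonoidHom.mk' (fun o => κ (Coalgebra.counit (R := k) o) • m) fun o o' => by
      rw [map_add, map_add, add_smul]) fun m m' => by
        ext o
        exact smul_add _ m m')
    (fun c m o => by
      change κ (Coalgebra.counit (R := k) o) • κ c • m = κ (Coalgebra.counit (R := k) (c • o)) • m
      rw [map_smul, smul_eq_mul, map_mul, smul_smul, mul_comm])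
    (fun r m o => smul_comm _ r m)

theorem epsL_tm {R : Type u} [CommRing R] (κ : k →+* R) {M : Type u} [AddCommGroup M] [Module R M] (m : M) (o : O) :
    epsL O κ M (TM.tm κ m o) = κ (Coalgebra.counit (R := k) o) • m := TM.liftL_tm κ _ _ _ m o

/-- `M ⊗ O → M` -/
def epsP (M : PresheafOfModules.{u} (rf A)) : tensPobj s M O ⟶ M :=
  mkHom (M := tensPobj s M O) (N := M) (fun X => epsL O (s.κ X) (M.obj X))
    fun {X Y} φ x => by
      change epsL O (s.κ Y) (M.obj Y) (tmap s M O φ x) = pmap M φ (epsL O (s.κ X) (M.obj X) x)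
      induction x using TM.induction with
      | zero => rw [map_zero, map_zero, map_zero, map_zero]
      | tm m o =>
        rw [tmap_tm, epsL_tm, epsL_tm, pmap_smul, s.nat]
      | add x y hx hy => rw [map_add, map_add, map_add, map_add, hx, hy]

theorem epsP_tm (M : PresheafOfModules.{u} (rf A)) (X : NFᵒᵖ) (m : M.obj X) (o : O) :
    lv (epsP s O M) X (TM.tm (s.κ X) m o) = s.κ X (Coalgebra.counit (R := k) o) • m := epsL_tm O _ m o

/-- `z ↦ m ⊗ z`, `O ⊗ O → (M ⊗ O) ⊗ O`, at a level -/
def ins {R : Type u} [CommRing R] (κ : k →+* R) {M : Type u} [AddCommGroup M] [Module R M] (m : M) :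
    O ⊗[k] O →+ TM κ (TM κ M O) O :=
  TensorProduct.liftAddHom
    (AddMonoidHom.mk' (fun a => AddMonoidHom.mk' (fun b => TM.tm κ (TM.tm κ m a) b) (TM.tm_add_right κ _)) fun a a' => by
      ext b
      change TM.tm κ (TM.tm κ m (a + a')) b = TM.tm κ (TM.tm κ m a) b + TM.tm κ (TM.tm κ m a') b
      rw [TM.tm_add_right, TM.tm_add_left])
    (fun c a b => by
      change TM.tm κ (TM.tm κ m (c • a)) b = TM.tm κ (TM.tm κ m a) (c • b)
      rw [← TM.k_smul_tm, TM.tm_k])

@[simp] theorem ins_tmul {R : Type u} [CommRing R] (κ : k →+* R) {M : Type u} [AddCommGroup M] [Module R M] (m : M)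
    (a b : O) : ins O κ m (a ⊗ₜ[k] b) = TM.tm κ (TM.tm κ m a) b := rfl

theorem ins_add {R : Type u} [CommRing R] (κ : k →+* R) {M : Type u} [AddCommGroup M] [Module R M] (m m' : M)
    (z : O ⊗[k] O) : ins O κ (m + m') z = ins O κ m z + ins O κ m' z := by
  induction z using TensorProduct.induction_on with
  | zero => simp
  | tmul a b => rw [ins_tmul, ins_tmul, ins_tmul, TM.tm_add_left, TM.tm_add_left]
  | add x y hx hy => rw [map_add, map_add, map_add, hx, hy]; abel

theorem ins_smul {R : Type u} [CommRing R] (κ : k →+* R) {M : Type u} [AddCommGroup M] [Module R M] (r : R) (m : M)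
    (z : O ⊗[k] O) : ins O κ (r • m) z = r • ins O κ m z := by
  induction z using TensorProduct.induction_on with
  | zero => simp
  | tmul a b => rw [ins_tmul, ins_tmul, TM.smul_tm, TM.smul_tm]
  | add x y hx hy => rw [map_add, map_add, hx, hy, smul_add]

theorem ins_k {R : Type u} [CommRing R] (κ : k →+* R) {M : Type u} [AddCommGroup M] [Module R M] (c : k) (m : M)
    (z : O ⊗[k] O) : ins O κ m (c • z) = ins O κ (κ c • m) z := by
  induction z using TensorProduct.induction_on with
  | zero => simp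
  | tmul a b => rw [TensorProduct.smul_tmul', ins_tmul, ins_tmul, TM.tm_k]
  | add x y hx hy => rw [smul_add, map_add, map_add, hx, hy]

/-- `M ⊗ O → (M ⊗ O) ⊗ O` at a level -/
def delL {R : Type u} [CommRing R] (κ : k →+* R) (M : Type u) [AddCommGroup M] [Module R M] :
    TM κ M O →ₗ[R] TM κ (TM κ M O) O :=
  TM.liftL κ
    (AddMonoidHom.mk' (fun m => (ins O κ m).comp (Coalgebra.comul (R := k) (A := O)).toAddMonoidHom) fun m m' => by
      ext o
      exact ins_add O κ m m' _)
    (fun c m o => by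
      change ins O κ (κ c • m) (Coalgebra.comul (R := k) o) = ins O κ m (Coalgebra.comul (R := k) (c • o))
      rw [map_smul, ins_k])
    (fun r m o => ins_smul O κ r m _)

theorem delL_tm {R : Type u} [CommRing R] (κ : k →+* R) {M : Type u} [AddCommGroup M] [Module R M] (m : M) (o : O) :
    delL O κ M (TM.tm κ m o) = ins O κ m (Coalgebra.comul (R := k) o) := TM.liftL_tm κ _ _ _ m o

/-- `ins` and a change of rings -/
theorem smap_ins {R S : Type u} [CommRing R] [CommRing S] {κ : k →+* R} (κ' : k →+* S) (φ : R →+* S)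
    (hφ : ∀ c, φ (κ c) = κ' c) {M : Type u} [AddCommGroup M] [Module R M] {N : Type u} [AddCommGroup N] [Module S N]
    (f : M →+ N) (hf : ∀ (r : R) (m : M), f (r • m) = φ r • f m) (m : M) (z : O ⊗[k] O) :
    TM.smap (W := O) κ' φ hφ (TM.smap (W := O) κ' φ hφ f hf) (TM.smap_smul κ' φ hφ f hf) (ins O κ m z) =
      ins O κ' (f m) z := by
  induction z using TensorProduct.induction_on with
  | zero => rw [map_zero, map_zero, map_zero]
  | tmul a b => rw [ins_tmul, ins_tmul, TM.smap_tm, TM.smap_tm]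
  | add x y hx hy => rw [map_add, map_add, map_add, hx, hy]

/-- `delL` and a change of rings -/
theorem smap_delL {R S : Type u} [CommRing R] [CommRing S] {κ : k →+* R} (κ' : k →+* S) (φ : R →+* S)
    (hφ : ∀ c, φ (κ c) = κ' c) {M : Type u} [AddCommGroup M] [Module R M] {N : Type u} [AddCommGroup N] [Module S N]
    (f : M →+ N) (hf : ∀ (r : R) (m : M), f (r • m) = φ r • f m) (x : TM κ M O) :
    delL O κ' N (TM.smap (W := O) κ' φ hφ f hf x) =
      TM.smap (W := O) κ' φ hφ (TM.smap (W := O) κ' φ hφ f hf) (TM.smap_smul κ' φ hφ f hf) (delL O κ M x) := by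
  induction x using TM.induction with
  | zero => rw [map_zero, map_zero, map_zero, map_zero]
  | tm m o => rw [TM.smap_tm, delL_tm, delL_tm, smap_ins]
  | add x y hx hy => rw [map_add, map_add, map_add, map_add, hx, hy]

/-- `M ⊗ O → (M ⊗ O) ⊗ O` -/
def delP (M : PresheafOfModules.{u} (rf A)) : tensPobj s M O ⟶ tensPobj s (tensPobj s M O) O :=
  mkHom (M := tensPobj s M O) (N := tensPobj s (tensPobj s M O) O) (fun X => delL O (s.κ X) (M.obj X))
    fun {X Y} φ x => smap_delL O (s.κ Y) (A.map φ).hom (s.nat φ) (pmap M φ) (pmap_smul M φ) x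

theorem delP_tm (M : PresheafOfModules.{u} (rf A)) (X : NFᵒᵖ) (m : M.obj X) (o : O) :
    lv (delP s O M) X (TM.tm (s.κ X) m o) = ins O (s.κ X) m (Coalgebra.comul (R := k) o) := delL_tm O _ m o

end comonad

end Groth.Agent.ResProp.EF.K742
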